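import Cfsg.Agent.Spor.L216b.D0

set_option autoImplicit false
set_option maxRecDepth 100000000
set_option Elab.async false

namespace Cfsg.Agent.Spor.L216b

theorem ok0 : Net.okb 6 n0 = true := by decide +kernel

theorem ok1 : Net.okb 6 n1 = true := by decide +kernel

theorem rel0 : T.rel 6 [1, 1] 0 6 = true := by decide +kernel

theorem rel1 : T.rel 6 [1, 2, 2, 1, 2, 2] 0 6 = true := by decide +kernel

theorem rel2 : T.rel 6 [2, 2, 2, 2, 2, 2, 2, 2, 2, 2] 0 6 = true := by decide +kernel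

theorem rel3 : T.rel 6 [1, 2, 1, 2, 1, 2, 1, 2, 1, 3, 1, 3] 0 6 = true := by decide +kernel

theorem hcov : T.treeCov (ones 60) L 1 = true := by decide +kernel

theorem hg : lall (fun z => band (memL L z) (band (sub (ones 60) (T.let z).cl) (T.closed (ones 60) z))) gs = true := by decide +kernel

theorem rot1_1 : T.rot 1 [1] (sel (ones 60) ip1 1) = true := by decide +kernel

theorem rot1_1r : band (Rule.ok (2 * 1) EX RL ⟨1 :: [1], [], 3, false⟩) (lall (memL L) [1]) = true := by decide +kernel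

theorem rot1_2 : T.rot 1 [2, 2, 1, 2, 2] (sel (ones 60) ip1 2) = true := by decide +kernel

theorem rot1_2r : band (Rule.ok (2 * 1) EX RL ⟨1 :: [2, 2, 1, 2, 2], [], 0, true⟩) (lall (memL L) [2, 2, 1, 2, 2]) = true := by decide +kernel

theorem rot1_3 : T.rot 1 [3, 3, 1, 3, 3] (sel (ones 60) ip1 3) = true := by decide +kernel

theorem rot1_3r : band (Rule.ok (2 * 1) EX RL ⟨1 :: [3, 3, 1, 3, 3], [0], 0, false⟩) (lall (memL L) [3, 3, 1, 3, 3]) = true := by decide +kernel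

theorem rot1_4 : T.rot 1 [2, 1, 3, 1, 3, 1, 2, 1, 2, 1, 2] (sel (ones 60) ip1 4) = true := by decide +kernel

theorem rot1_4r : band (Rule.ok (2 * 1) EX RL ⟨1 :: [2, 1, 3, 1, 3, 1, 2, 1, 2, 1, 2], [3, 0, 3, 0, 2, 0], 2, true⟩) (lall (memL L) [2, 1, 3, 1, 3, 1, 2, 1, 2, 1, 2]) = true := by decide +kernel

theorem rot1_5 : T.rot 1 [3, 1, 3, 1, 2, 1, 2, 1, 2, 1, 2] (sel (ones 60) ip1 5) = true := by decide +kernel

theorem rot1_5r : band (Rule.ok (2 * 1) EX RL ⟨1 :: [3, 1, 3, 1, 2, 1, 2, 1, 2, 1, 2], [3, 0, 3, 0], 2, true⟩) (lall (memL L) [3, 1, 3, 1, 2, 1, 2, 1, 2, 1, 2]) = true := by decide +kernel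

theorem rot1_6 : T.rot 1 [3, 1, 2, 1, 2, 1, 2, 1, 2, 1, 3] (sel (ones 60) ip1 6) = true := by decide +kernel

theorem rot1_6r : band (Rule.ok (2 * 1) EX RL ⟨1 :: [3, 1, 2, 1, 2, 1, 2, 1, 2, 1, 3], [3, 0], 2, true⟩) (lall (memL L) [3, 1, 2, 1, 2, 1, 2, 1, 2, 1, 3]) = true := by decide +kernel

theorem rot1_7 : T.rot 1 [3, 1, 3, 1, 3, 1, 3, 1, 2, 1, 2] (sel (ones 60) ip1 7) = true := by decide +kernel

theorem rot1_7r : band (Rule.ok (2 * 1) EX RL ⟨1 :: [3, 1, 3, 1, 3, 1, 3, 1, 2, 1, 2], [3, 0, 3], 2, false⟩) (lall (memL L) [3, 1, 3, 1, 3, 1, 3, 1, 2, 1, 2]) = true := by decide +kernel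

theorem rot1_8 : T.rot 1 [3, 1, 3, 1, 3, 1, 2, 1, 2, 1, 3] (sel (ones 60) ip1 8) = true := by decide +kernel

theorem rot1_8r : band (Rule.ok (2 * 1) EX RL ⟨1 :: [3, 1, 3, 1, 3, 1, 2, 1, 2, 1, 3], [3, 0, 3, 0, 2], 2, false⟩) (lall (memL L) [3, 1, 3, 1, 3, 1, 2, 1, 2, 1, 3]) = true := by decide +kernel

theorem cov1 : T.cover 1 [(sel (ones 60) ip1 1), (sel (ones 60) ip1 2), (sel (ones 60) ip1 3), (sel (ones 60) ip1 4), (sel (ones 60) ip1 5), (sel (ones 60) ip1 6), (sel (ones 60) ip1 7), (sel (ones 60) ip1 8)] = true := by decide +kernel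

theorem tl1 : T.treeLt 6 1 = true := by decide +kernel

theorem rot2_1 : T.rot 2 [3] (sel (ones 60) ip2 1) = true := by decide +kernel

theorem rot2_1r : band (Rule.ok (2 * 1) EX RL ⟨2 :: [3], [], 3, false⟩) (lall (memL L) [3]) = true := by decide +kernel

theorem rot2_2 : T.rot 2 [1, 2, 2, 1, 2] (sel (ones 60) ip2 2) = true := by decide +kernel

theorem rot2_2r : band (Rule.ok (2 * 1) EX RL ⟨2 :: [1, 2, 2, 1, 2], [2], 0, true⟩) (lall (memL L) [1, 2, 2, 1, 2]) = true := by decide +kernel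

theorem rot2_3 : T.rot 2 [2, 2, 2, 2, 2, 2, 2, 2, 2] (sel (ones 60) ip2 3) = true := by decide +kernel

theorem rot2_3r : band (Rule.ok (2 * 1) EX RL ⟨2 :: [2, 2, 2, 2, 2, 2, 2, 2, 2], [], 1, true⟩) (lall (memL L) [2, 2, 2, 2, 2, 2, 2, 2, 2]) = true := by decide +kernel

theorem rot2_4 : T.rot 2 [1, 2, 1, 2, 1, 2, 1, 3, 1, 3, 1] (sel (ones 60) ip2 4) = true := by decide +kernel

theorem rot2_4r : band (Rule.ok (2 * 1) EX RL ⟨2 :: [1, 2, 1, 2, 1, 2, 1, 3, 1, 3, 1], [0], 2, true⟩) (lall (memL L) [1, 2, 1, 2, 1, 2, 1, 3, 1, 3, 1]) = true := by decide +kernel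

theorem rot2_5 : T.rot 2 [1, 2, 1, 3, 1, 3, 1, 2, 1, 2, 1] (sel (ones 60) ip2 5) = true := by decide +kernel

theorem rot2_5r : band (Rule.ok (2 * 1) EX RL ⟨2 :: [1, 2, 1, 3, 1, 3, 1, 2, 1, 2, 1], [0, 3, 0, 3, 0], 2, true⟩) (lall (memL L) [1, 2, 1, 3, 1, 3, 1, 2, 1, 2, 1]) = true := by decide +kernel

theorem cov2 : T.cover 2 [(sel (ones 60) ip2 1), (sel (ones 60) ip2 2), (sel (ones 60) ip2 3), (sel (ones 60) ip2 4), (sel (ones 60) ip2 5)] = true := by decide +kernel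

theorem tl2 : T.treeLt 6 2 = true := by decide +kernel

theorem rot3_1 : T.rot 3 [2] (sel (ones 60) ip3 1) = true := by decide +kernel

theorem rot3_1r : band (Rule.ok (2 * 1) EX RL ⟨3 :: [2], [], 3, false⟩) (lall (memL L) [2]) = true := by decide +kernel

theorem rot3_2 : T.rot 3 [3, 1, 3, 3, 1] (sel (ones 60) ip3 2) = true := by decide +kernel

theorem rot3_2r : band (Rule.ok (2 * 1) EX RL ⟨3 :: [3, 1, 3, 3, 1], [], 0, false⟩) (lall (memL L) [3, 1, 3, 3, 1]) = true := by decide +kernel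

theorem rot3_3 : T.rot 3 [3, 3, 3, 3, 3, 3, 3, 3, 3] (sel (ones 60) ip3 3) = true := by decide +kernel

theorem rot3_3r : band (Rule.ok (2 * 1) EX RL ⟨3 :: [3, 3, 3, 3, 3, 3, 3, 3, 3], [], 1, false⟩) (lall (memL L) [3, 3, 3, 3, 3, 3, 3, 3, 3]) = true := by decide +kernel

theorem rot3_4 : T.rot 3 [1, 3, 1, 2, 1, 2, 1, 2, 1, 2, 1] (sel (ones 60) ip3 4) = true := by decide +kernel

theorem rot3_4r : band (Rule.ok (2 * 1) EX RL ⟨3 :: [1, 3, 1, 2, 1, 2, 1, 2, 1, 2, 1], [3, 0, 3], 2, true⟩) (lall (memL L) [1, 3, 1, 2, 1, 2, 1, 2, 1, 2, 1]) = true := by decide +kernel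

theorem rot3_5 : T.rot 3 [1, 2, 1, 2, 1, 2, 1, 2, 1, 3, 1] (sel (ones 60) ip3 5) = true := by decide +kernel

theorem rot3_5r : band (Rule.ok (2 * 1) EX RL ⟨3 :: [1, 2, 1, 2, 1, 2, 1, 2, 1, 3, 1], [3], 2, true⟩) (lall (memL L) [1, 2, 1, 2, 1, 2, 1, 2, 1, 3, 1]) = true := by decide +kernel

theorem cov3 : T.cover 3 [(sel (ones 60) ip3 1), (sel (ones 60) ip3 2), (sel (ones 60) ip3 3), (sel (ones 60) ip3 4), (sel (ones 60) ip3 5)] = true := by decide +kernel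

theorem tl3 : T.treeLt 6 3 = true := by decide +kernel

end Cfsg.Agent.Spor.L216b
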