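import Cfsg.Agent.Spor.Chk

set_option autoImplicit false
set_option maxRecDepth 100000000
set_option Elab.async false
noncomputable section

namespace Cfsg.Agent.Spor.L216b

def m0_0 : Nat := nat_lit 0x6c85010b
def m0_1 : Nat := nat_lit 0x40700000b189
def m0_2 : Nat := nat_lit 0x6f00f600b100c8
def m0_3 : Nat := nat_lit 0x80c080c030c0d0d
def m0_4 : Nat := nat_lit 0x2132003020221201
def m0_5 : Nat := nat_lit 0x141111104140110
def m0_6 : Nat := nat_lit 0x120000110020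
def m0_7 : Nat := nat_lit 0xa05060100010002
def m0_8 : Nat := nat_lit 0x900130017
def m0_9 : Nat := nat_lit 0x40700000a1ab
def m0_10 : Nat := nat_lit 0x6c85010b
def n0 : Net := Net.cons 32 m0_0 (Net.cons 16 m0_1 (Net.cons 8 m0_2 (Net.cons 4 m0_3 (Net.cons 2 m0_4 (Net.cons 1 m0_5 (Net.cons 2 m0_6 (Net.cons 4 m0_7 (Net.cons 8 m0_8 (Net.cons 16 m0_9 (Net.cons 32 m0_10 (Net.nil)))))))))))

def m1_0 : Nat := nat_lit 0xd3841258
def m1_1 : Nat := nat_lit 0x955000001690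
def m1_2 : Nat := nat_lit 0x4e004b000a00e8
def m1_3 : Nat := nat_lit 0xc08050702030108
def m1_4 : Nat := nat_lit 0x1202203001131021
def m1_5 : Nat := nat_lit 0x4514115414410414
def m1_6 : Nat := nat_lit 0x1000120000000200
def m1_7 : Nat := nat_lit 0x806000401040102
def m1_8 : Nat := nat_lit 0x1d0011001a0004
def m1_9 : Nat := nat_lit 0x947700001d84
def m1_10 : Nat := nat_lit 0xda2c8202
def n1 : Net := Net.cons 32 m1_0 (Net.cons 16 m1_1 (Net.cons 8 m1_2 (Net.cons 4 m1_3 (Net.cons 2 m1_4 (Net.cons 1 m1_5 (Net.cons 2 m1_6 (Net.cons 4 m1_7 (Net.cons 8 m1_8 (Net.cons 16 m1_9 (Net.cons 32 m1_10 (Net.nil)))))))))))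

def cl1 : Nat := nat_lit 0xfffffffffffffff
def tt1 : Nat := nat_lit 0x993001542
def tm1_0 : Nat := nat_lit 0x1268d2ddb001542
def tm1_1 : Nat := nat_lit 0x3fffff66ca52a80
def tm1_2 : Nat := nat_lit 0xc00000000000000
def ip1_0 : Nat := nat_lit 0xf61022bd7843742
def ip1_1 : Nat := nat_lit 0xbff1e366ca52a80
def ip1_2 : Nat := nat_lit 0xc04a94000000000
def ip1_3 : Nat := nat_lit 0x408000000000
def ip1 : List Nat := [ip1_0, ip1_1, ip1_2, ip1_3]
def l1 : Let := ⟨0, false, cl1, tt1, [tm1_0, tm1_1, tm1_2]⟩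

def cl2 : Nat := nat_lit 0xfffffffffffffff
def tt2 : Nat := nat_lit 0xc9ab554286b4894
def tm2_0 : Nat := nat_lit 0x36d5aaa5494a228
def tm2_1 : Nat := nat_lit 0xa344810084000
def tm2_2 : Nat := nat_lit 0xc00000000000000
def ip2_0 : Nat := nat_lit 0xf6f5eaa4494a228
def ip2_1 : Nat := nat_lit 0xc0a344000084000
def ip2_2 : Nat := nat_lit 0x810000000
def ip2 : List Nat := [ip2_0, ip2_1, ip2_2]
def l2 : Let := ⟨1, false, cl2, tt2, [tm2_0, tm2_1, tm2_2]⟩

def cl3 : Nat := nat_lit 0xfffffffffffffff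
def tt3 : Nat := nat_lit 0x3654aa24494a228
def tm3_0 : Nat := nat_lit 0xdbaf5d4286b4894
def tm3_1 : Nat := nat_lit 0x12040a142001100
def tm3_2 : Nat := nat_lit 0x240000000000000
def ip3_0 : Nat := nat_lit 0xffab5f4686b4894
def ip3_1 : Nat := nat_lit 0x360002142001100
def ip3_2 : Nat := nat_lit 0x408000000000
def ip3 : List Nat := [ip3_0, ip3_1, ip3_2]
def l3 : Let := ⟨1, true, cl3, tt3, [tm3_0, tm3_1, tm3_2]⟩

def NT : List Net := [n0, n1]
def LT : List Let := [⟨0, false, 0, 0, []⟩, l1, l2, l3]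
def T : Tab := ⟨NT, LT⟩
def EX : List (List Nat) := [[], [0], [2], [3]]
def RL : List (List Nat) := [[2, 2, 0, 2, 2, 0], [2, 2, 2, 2, 2, 2, 2, 2, 2, 2], [3, 0, 3, 0, 2, 0, 2, 0, 2, 0, 2, 0]]
def XL : List (List Nat) := []
def BW : List (List Nat) := []
def IV : Nat := 0x2030100
def L : List Nat := [1, 2, 3]
def gs : List Nat := [1, 2]
def base : List Nat := []

end Cfsg.Agent.Spor.L216b
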